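import Mathlib

set_option autoImplicit false
universe u

open MvPolynomial CategoryTheory CategoryTheory.Limits

namespace Groth.Agent.IntPair

variable {A B C : Type u} [CommRing A] [CommRing B] [CommRing C] [Algebra A B] [Algebra A C]
  [Algebra B C] [IsScalarTower A B C]

/-- Evaluation of the variables indexed by a finite subset of `B`. -/
noncomputable def evB (E : Finset B) : MvPolynomial ↥E A →ₐ[A] B := aeval fun e => (e : B)

/-- Evaluation of the variables indexed by finite subsets of `B` and `C`. -/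
noncomputable def evC (E : Finset B) (E' : Finset C) : MvPolynomial (↥E ⊕ ↥E') A →ₐ[A] C :=
  aeval (Sum.elim (fun e => algebraMap B C (e : B)) (fun c => (c : C)))

/-- Inclusion of variables. -/
noncomputable def rnB {E F : Finset B} (h : E ⊆ F) : MvPolynomial ↥E A →ₐ[A] MvPolynomial ↥F A :=
  rename fun e => ⟨e, h e.2⟩

/-- Inclusion of variables, pairs. -/
noncomputable def rnC {E F : Finset B} {E' F' : Finset C} (h : E ⊆ F) (h' : E' ⊆ F') :
    MvPolynomial (↥E ⊕ ↥E') A →ₐ[A] MvPolynomial (↥F ⊕ ↥F') A :=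
  rename (Sum.map (fun e => ⟨e, h e.2⟩) (fun c => ⟨c, h' c.2⟩))

/-- The inclusion of the `B`-variables. -/
noncomputable def incl (E : Finset B) (E' : Finset C) :
    MvPolynomial ↥E A →ₐ[A] MvPolynomial (↥E ⊕ ↥E') A :=
  rename Sum.inl

lemma evB_rnB {E F : Finset B} (h : E ⊆ F) (p : MvPolynomial ↥E A) :
    evB F (rnB h p) = evB E p := by
  rw [evB, rnB, aeval_rename]; rfl

lemma evC_rnC {E F : Finset B} {E' F' : Finset C} (h : E ⊆ F) (h' : E' ⊆ F')
    (p : MvPolynomial (↥E ⊕ ↥E') A) : evC F F' (rnC h h' p) = evC E E' p := by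
  rw [evC, rnC, aeval_rename]
  congr 1
  congr 1
  funext x
  cases x <;> rfl

lemma evC_incl (E : Finset B) (E' : Finset C) (p : MvPolynomial ↥E A) :
    evC E E' (incl E E' p) = algebraMap B C (evB E p) := by
  rw [evC, incl, aeval_rename]
  have := MvPolynomial.map_aeval (fun e : ↥E => (e : B)) (algebraMap B C) p
  rw [evB, this]
  rw [← IsScalarTower.algebraMap_eq A B C]
  rfl

lemma rnC_incl {E F : Finset B} {E' F' : Finset C} (h : E ⊆ F) (h' : E' ⊆ F')
    (p : MvPolynomial ↥E A) : rnC h h' (incl E E' p) = incl F F' (rnB h p) := by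
  rw [rnC, incl, incl, rnB, rename_rename, rename_rename]
  rfl

variable (A B C)

/-- Indices: finitely generated approximations of `B → C`. -/
structure Idx where
  E : Finset B
  E' : Finset C
  I : Ideal (MvPolynomial ↥E A)
  J : Ideal (MvPolynomial (↥E ⊕ ↥E') A)
  hI : I ≤ RingHom.ker (evB E)
  hJ : J ≤ RingHom.ker (evC E E')
  hIJ : I ≤ J.comap (incl E E')
  fgI : I.FG
  fgJ : J.FG
  monB : ∀ e : ↥E, ∃ p : Polynomial A, p.Monic ∧ Polynomial.aeval (X e) p ∈ I
  monC : ∀ v : ↥E ⊕ ↥E', ∃ p : Polynomial A, p.Monic ∧ Polynomial.aeval (X v) p ∈ J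
  surjAB : Function.Surjective (algebraMap A B) → ∀ e : ↥E, ∃ a : A, X e - MvPolynomial.C a ∈ I
  surjBC : Function.Surjective (algebraMap B C) → ∀ c : ↥E', ∃ e : ↥E, X (Sum.inr c) - X (Sum.inl e) ∈ J
  surjAC : Function.Surjective (algebraMap A C) →
    ∀ v : ↥E ⊕ ↥E', ∃ a : A, X v - MvPolynomial.C a ∈ J
  nilBC : Function.Surjective (algebraMap B C) → IsNilpotent (RingHom.ker (algebraMap B C)) →
    ∃ m : ℕ, (J.comap (incl E E')) ^ m ≤ I

variable {A B C}

namespace Idx

/-- Order relation. -/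
structure Le (i j : Idx A B C) : Prop where
  hE : i.E ⊆ j.E
  hE' : i.E' ⊆ j.E'
  hI : i.I ≤ j.I.comap (rnB hE)
  hJ : i.J ≤ j.J.comap (rnC hE hE')

instance : Preorder (Idx A B C) where
  le := Le
  le_refl i := by
    refine ⟨subset_rfl, subset_rfl, fun p hp => ?_, fun p hp => ?_⟩
    · show rnB subset_rfl p ∈ i.I
      rwa [show rnB (A := A) (subset_rfl : i.E ⊆ i.E) p = p from rename_id_apply p]
    · show rnC subset_rfl subset_rfl p ∈ i.J
      have : rnC (A := A) (subset_rfl : i.E ⊆ i.E) (subset_rfl : i.E' ⊆ i.E') p = p := by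
        rw [rnC, show (Sum.map (fun e : ↥i.E => (⟨e, e.2⟩ : ↥i.E))
          (fun c : ↥i.E' => (⟨c, c.2⟩ : ↥i.E'))) = id from funext fun x => by cases x <;> rfl]
        exact rename_id_apply p
      rwa [this]
  le_trans i j k h₁ h₂ := by
    refine ⟨h₁.hE.trans h₂.hE, h₁.hE'.trans h₂.hE', fun p hp => ?_, fun p hp => ?_⟩
    · show rnB _ p ∈ k.I
      have := h₂.hI (h₁.hI hp)
      rw [Ideal.mem_comap] at this
      rw [rnB, rnB, rename_rename] at this
      exact this
    · show rnC _ _ p ∈ k.J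
      have := h₂.hJ (h₁.hJ hp)
      rw [Ideal.mem_comap] at this
      rw [rnC, rnC, rename_rename] at this
      rw [rnC]
      convert this using 4
      funext x
      cases x <;> rfl

end Idx

section enlarge

variable [Algebra.IsIntegral A B] [Algebra.IsIntegral A C]

/-- Any finite amount of data is contained in an index. -/
theorem enlarge (E₀ : Finset B) (E₀' : Finset C)
    (I₀ : Ideal (MvPolynomial ↥E₀ A)) (J₀ : Ideal (MvPolynomial (↥E₀ ⊕ ↥E₀') A))
    (hI₀ : I₀ ≤ RingHom.ker (evB E₀)) (hJ₀ : J₀ ≤ RingHom.ker (evC E₀ E₀'))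
    (fgI₀ : I₀.FG) (fgJ₀ : J₀.FG) :
    ∃ (k : Idx A B C) (h : E₀ ⊆ k.E) (h' : E₀' ⊆ k.E'),
      I₀ ≤ k.I.comap (rnB h) ∧ J₀ ≤ k.J.comap (rnC h h') := by
  classical
  -- sections of the surjective maps
  let sBC : C → B := fun c =>
    if hs : Function.Surjective (algebraMap B C) then Function.surjInv hs c else 0
  have hsBC : Function.Surjective (algebraMap B C) → ∀ c, algebraMap B C (sBC c) = c := fun hs c => by
    simp only [sBC, dif_pos hs, Function.surjInv_eq hs c]
  let E : Finset B := E₀ ∪ E₀'.image sBC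
  have hE : E₀ ⊆ E := Finset.subset_union_left
  have hsE : ∀ c : ↥E₀', sBC c ∈ E := fun c =>
    Finset.mem_union_right _ (Finset.mem_image_of_mem _ c.2)
  -- monic relations
  choose pB hpBm hpB using fun b : B => Algebra.IsIntegral.isIntegral (R := A) b
  choose pC hpCm hpC using fun c : C => Algebra.IsIntegral.isIntegral (R := A) c
  let valC : ↥E ⊕ ↥E₀' → C := Sum.elim (fun e => algebraMap B C (e : B)) (fun c => (c : C))
  let relB : ↥E → MvPolynomial ↥E A := fun e => Polynomial.aeval (X e) (pB e)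
  let relB' : ↥E → MvPolynomial ↥E A := fun e =>
    if hs : Function.Surjective (algebraMap A B) then X e - MvPolynomial.C (Function.surjInv hs e)
    else 0
  let relC : ↥E ⊕ ↥E₀' → MvPolynomial (↥E ⊕ ↥E₀') A := fun v =>
    Polynomial.aeval (X v) (pC (valC v))
  let relC' : ↥E ⊕ ↥E₀' → MvPolynomial (↥E ⊕ ↥E₀') A := fun v =>
    if hs : Function.Surjective (algebraMap A C) then
      X v - MvPolynomial.C (Function.surjInv hs (valC v))
    else 0
  let relBC : ↥E₀' → MvPolynomial (↥E ⊕ ↥E₀') A := fun c =>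
    if Function.Surjective (algebraMap B C) then X (Sum.inr c) - X (Sum.inl ⟨_, hsE c⟩) else 0
  let I₁ : Ideal (MvPolynomial ↥E A) :=
    I₀.map (rnB hE) ⊔ Ideal.span (Set.range relB) ⊔ Ideal.span (Set.range relB')
  let J : Ideal (MvPolynomial (↥E ⊕ ↥E₀') A) :=
    I₁.map (incl E E₀') ⊔ J₀.map (rnC hE subset_rfl) ⊔ Ideal.span (Set.range relC) ⊔
      Ideal.span (Set.range relC') ⊔ Ideal.span (Set.range relBC)
  have fgI₁ : I₁.FG :=
    Submodule.FG.sup (Submodule.FG.sup (fgI₀.map _) (Submodule.fg_span (Set.finite_range _)))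
      (Submodule.fg_span (Set.finite_range _))
  have fgJ : J.FG :=
    Submodule.FG.sup (Submodule.FG.sup (Submodule.FG.sup (Submodule.FG.sup (fgI₁.map _) (fgJ₀.map _))
      (Submodule.fg_span (Set.finite_range _))) (Submodule.fg_span (Set.finite_range _)))
      (Submodule.fg_span (Set.finite_range _))
  have hI₁ : I₁ ≤ RingHom.ker (evB E) := by
    refine sup_le (sup_le ?_ ?_) ?_
    · rw [Ideal.map_le_iff_le_comap]
      intro p hp
      simp only [Ideal.mem_comap, RingHom.mem_ker, evB_rnB]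
      exact hI₀ hp
    · rw [Ideal.span_le]; rintro _ ⟨e, rfl⟩
      simp only [SetLike.mem_coe, RingHom.mem_ker, relB]
      rw [← Polynomial.aeval_algHom_apply, evB, aeval_X]
      exact hpB _
    · rw [Ideal.span_le]; rintro _ ⟨e, rfl⟩
      simp only [SetLike.mem_coe, RingHom.mem_ker, relB']
      split_ifs with hs
      · simp [evB, Function.surjInv_eq hs]
      · exact map_zero _
  have hvalC : ∀ v, evC E E₀' (X v : MvPolynomial _ A) = valC v := fun v => by
    rw [evC, aeval_X]
  have hJ : J ≤ RingHom.ker (evC E E₀') := by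
    refine sup_le (sup_le (sup_le (sup_le ?_ ?_) ?_) ?_) ?_
    · rw [Ideal.map_le_iff_le_comap]
      intro p hp
      simp only [Ideal.mem_comap, RingHom.mem_ker, evC_incl]
      rw [show evB E p = 0 from hI₁ hp, map_zero]
    · rw [Ideal.map_le_iff_le_comap]
      intro p hp
      simp only [Ideal.mem_comap, RingHom.mem_ker, evC_rnC]
      exact hJ₀ hp
    · rw [Ideal.span_le]; rintro _ ⟨v, rfl⟩
      simp only [SetLike.mem_coe, RingHom.mem_ker, relC]
      rw [← Polynomial.aeval_algHom_apply, hvalC]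
      exact hpC _
    · rw [Ideal.span_le]; rintro _ ⟨v, rfl⟩
      simp only [SetLike.mem_coe, RingHom.mem_ker, relC']
      split_ifs with hs
      · rw [map_sub, hvalC]; simp [evC, Function.surjInv_eq hs]
      · exact map_zero _
    · rw [Ideal.span_le]; rintro _ ⟨c, rfl⟩
      simp only [SetLike.mem_coe, RingHom.mem_ker, relBC]
      split_ifs with hs
      · rw [map_sub, hvalC, hvalC]; simp [valC, hsBC hs]
      · exact map_zero _
  -- kernel of the map `B_i → C_i`
  let L : Ideal (MvPolynomial ↥E A) := J.comap (incl E E₀')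
  have hI₁L : I₁ ≤ L := fun p hp => by
    refine Ideal.mem_comap.mpr ?_
    exact le_sup_left (a := I₁.map (incl E E₀')) |>.trans le_sup_left |>.trans le_sup_left |>.trans
      le_sup_left (Ideal.mem_map_of_mem _ hp)
  have hBC : ∀ hs : Function.Surjective (algebraMap B C), ∀ c : ↥E₀',
      X (Sum.inr c) - X (Sum.inl ⟨_, hsE c⟩) ∈ J := fun hs c => by
    refine le_sup_right (a := _) (b := Ideal.span (Set.range relBC)) (Ideal.subset_span ⟨c, ?_⟩)
    simp only [relBC, if_pos hs]
  obtain ⟨I, fgI, hI, hI₁I, hIJ, hnil⟩ : ∃ I : Ideal (MvPolynomial ↥E A), I.FG ∧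
      I ≤ RingHom.ker (evB E) ∧ I₁ ≤ I ∧ I ≤ L ∧
      (Function.Surjective (algebraMap B C) → IsNilpotent (RingHom.ker (algebraMap B C)) →
        ∃ m : ℕ, L ^ m ≤ I) := by
    by_cases h : Function.Surjective (algebraMap B C) ∧ IsNilpotent (RingHom.ker (algebraMap B C))
    · obtain ⟨hs, m, hm⟩ := h
      have hsurj : Function.Surjective ((Ideal.Quotient.mkₐ A J).comp (incl E E₀')) := by
        rw [← AlgHom.range_eq_top, eq_top_iff]
        rintro y -
        obtain ⟨p, rfl⟩ := Ideal.Quotient.mkₐ_surjective A J y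
        induction p using MvPolynomial.induction_on with
        | C a => exact ⟨MvPolynomial.C a, by simp [incl]⟩
        | add p q hp hq => rw [map_add]; exact add_mem hp hq
        | mul_X p v hp =>
          rw [map_mul]
          refine mul_mem hp ?_
          cases v with
          | inl e => exact ⟨X e, by simp [incl]⟩
          | inr c =>
            refine ⟨X ⟨_, hsE c⟩, ?_⟩
            simp only [AlgHom.toRingHom_eq_coe, RingHom.coe_coe, AlgHom.comp_apply, incl, rename_X,
              Ideal.Quotient.mkₐ_eq_mk]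
            rw [Ideal.Quotient.eq, ← neg_mem_iff, neg_sub]
            exact hBC hs c
      haveI : Algebra.FinitePresentation A (MvPolynomial (↥E ⊕ ↥E₀') A ⧸ J) :=
        Algebra.FinitePresentation.quotient fgJ
      have fgL : L.FG := by
        have := Algebra.FinitePresentation.ker_fG_of_surjective _ hsurj
        rwa [show RingHom.ker ((Ideal.Quotient.mkₐ A J).comp (incl E E₀')).toRingHom = L from
          Ideal.ext fun p => by
            rw [RingHom.mem_ker, Ideal.mem_comap]
            exact Ideal.Quotient.eq_zero_iff_mem] at this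
      refine ⟨I₁ ⊔ L ^ (m + 1), Submodule.FG.sup fgI₁ (Submodule.FG.pow fgL _), sup_le hI₁ ?_, le_sup_left,
        sup_le hI₁L (Ideal.pow_le_self (Nat.succ_ne_zero m)), fun _ _ => ⟨m + 1, le_sup_right⟩⟩
      have hmap : L.map (evB E) ≤ RingHom.ker (algebraMap B C) := by
        rw [Ideal.map_le_iff_le_comap]
        intro p hp
        rw [Ideal.mem_comap, RingHom.mem_ker, ← evC_incl (E' := E₀')]
        exact hJ hp
      intro p hp
      have h2 := Ideal.mem_map_of_mem (evB E) hp
      rw [Ideal.map_pow] at h2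
      have h3 := Ideal.pow_right_mono hmap (m + 1) h2
      rw [pow_succ, hm, Ideal.zero_eq_bot, Ideal.bot_mul, Ideal.mem_bot] at h3
      exact h3
    · exact ⟨I₁, fgI₁, hI₁, le_rfl, hI₁L, fun h1 h2 => absurd ⟨h1, h2⟩ h⟩
  refine ⟨⟨E, E₀', I, J, hI, hJ, hIJ, fgI, fgJ, ?_, ?_, ?_, ?_, ?_, hnil⟩, hE, subset_rfl, ?_, ?_⟩
  · exact fun e => ⟨pB e, hpBm _, hI₁I
      (le_sup_left (b := Ideal.span (Set.range relB'))
        (le_sup_right (a := I₀.map (rnB hE)) (Ideal.subset_span ⟨e, rfl⟩)))⟩
  · exact fun v => ⟨pC (valC v), hpCm _,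
      le_sup_left (b := Ideal.span (Set.range relBC))
        (le_sup_left (b := Ideal.span (Set.range relC'))
          (le_sup_right (b := Ideal.span (Set.range relC)) (Ideal.subset_span ⟨v, rfl⟩)))⟩
  · intro hs e
    refine ⟨Function.surjInv hs (e : B), hI₁I
      (le_sup_right (b := Ideal.span (Set.range relB')) (Ideal.subset_span ⟨e, ?_⟩))⟩
    simp only [relB', dif_pos hs]
  · exact fun hs c => ⟨_, hBC hs c⟩
  · intro hs v
    refine ⟨Function.surjInv hs (valC v),
      le_sup_left (b := Ideal.span (Set.range relBC))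
        (le_sup_right (b := Ideal.span (Set.range relC')) (Ideal.subset_span ⟨v, ?_⟩))⟩
    simp only [relC', dif_pos hs]
  · intro p hp
    exact hI₁I (le_sup_left (b := Ideal.span (Set.range relB'))
      (le_sup_left (b := Ideal.span (Set.range relB)) (Ideal.mem_map_of_mem _ hp)))
  · intro p hp
    exact le_sup_left (b := Ideal.span (Set.range relBC))
      (le_sup_left (b := Ideal.span (Set.range relC'))
        (le_sup_left (b := Ideal.span (Set.range relC))
          (le_sup_right (b := J₀.map (rnC hE subset_rfl)) (Ideal.mem_map_of_mem _ hp))))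

theorem nonempty_idx : Nonempty (Idx A B C) :=
  ⟨(enlarge (∅ : Finset B) (∅ : Finset C) (⊥ : Ideal (MvPolynomial _ A)) ⊥ bot_le bot_le
    Submodule.fg_bot Submodule.fg_bot).choose⟩

theorem exists_ge (i : Idx A B C) (E₁ : Finset B) (E₁' : Finset C)
    (h : i.E ⊆ E₁) (h' : i.E' ⊆ E₁') (I₁ : Ideal (MvPolynomial ↥E₁ A))
    (J₁ : Ideal (MvPolynomial (↥E₁ ⊕ ↥E₁') A))
    (hI₁ : I₁ ≤ RingHom.ker (evB E₁)) (hJ₁ : J₁ ≤ RingHom.ker (evC E₁ E₁'))
    (fgI₁ : I₁.FG) (fgJ₁ : J₁.FG) :
    ∃ (k : Idx A B C) (g : E₁ ⊆ k.E) (g' : E₁' ⊆ k.E'), i ≤ k ∧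
      I₁ ≤ k.I.comap (rnB g) ∧ J₁ ≤ k.J.comap (rnC g g') := by
  obtain ⟨k, g, g', hkI, hkJ⟩ := enlarge E₁ E₁' (I₁ ⊔ i.I.map (rnB h)) (J₁ ⊔ i.J.map (rnC h h'))
    (sup_le hI₁ (Ideal.map_le_iff_le_comap.mpr fun p hp => by
      simp only [Ideal.mem_comap, RingHom.mem_ker, evB_rnB]; exact i.hI hp))
    (sup_le hJ₁ (Ideal.map_le_iff_le_comap.mpr fun p hp => by
      simp only [Ideal.mem_comap, RingHom.mem_ker, evC_rnC]; exact i.hJ hp))
    (Submodule.FG.sup fgI₁ (i.fgI.map _)) (Submodule.FG.sup fgJ₁ (i.fgJ.map _))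
  refine ⟨k, g, g', ⟨h.trans g, h'.trans g', fun p hp => ?_, fun p hp => ?_⟩,
    le_sup_left.trans hkI, le_sup_left.trans hkJ⟩
  · have := hkI (le_sup_right (a := I₁) (Ideal.mem_map_of_mem (rnB h) hp))
    rw [Ideal.mem_comap] at this ⊢
    simp only [rnB, rename_rename] at this ⊢
    exact this
  · have := hkJ (le_sup_right (a := J₁) (Ideal.mem_map_of_mem (rnC h h') hp))
    rw [Ideal.mem_comap] at this ⊢
    simp only [rnC, rename_rename] at this ⊢
    convert this using 4
    funext x
    cases x <;> rfl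

instance : IsDirectedOrder (Idx A B C) := by
  classical
  constructor
  intro i j
  obtain ⟨k, g, g', hik, hI, hJ⟩ := exists_ge i (i.E ∪ j.E) (i.E' ∪ j.E')
    Finset.subset_union_left Finset.subset_union_left
    (j.I.map (rnB Finset.subset_union_right))
    (j.J.map (rnC Finset.subset_union_right Finset.subset_union_right))
    (Ideal.map_le_iff_le_comap.mpr fun p hp => by
      simp only [Ideal.mem_comap, RingHom.mem_ker, evB_rnB]; exact j.hI hp)
    (Ideal.map_le_iff_le_comap.mpr fun p hp => by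
      simp only [Ideal.mem_comap, RingHom.mem_ker, evC_rnC]; exact j.hJ hp)
    (j.fgI.map _) (j.fgJ.map _)
  refine ⟨k, hik, ⟨Finset.subset_union_right.trans g, Finset.subset_union_right.trans g',
    fun p hp => ?_, fun p hp => ?_⟩⟩
  · have := hI (Ideal.mem_map_of_mem (rnB Finset.subset_union_right) hp)
    rw [Ideal.mem_comap] at this ⊢
    simp only [rnB, rename_rename] at this ⊢
    exact this
  · have := hJ (Ideal.mem_map_of_mem
      (rnC Finset.subset_union_right Finset.subset_union_right) hp)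
    rw [Ideal.mem_comap] at this ⊢
    simp only [rnC, rename_rename] at this ⊢
    convert this using 4
    funext x
    cases x <;> rfl

end enlarge

end Groth.Agent.IntPair
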