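import Groth.Agent.IntPair.Basic

set_option autoImplicit false
universe u

open MvPolynomial CategoryTheory CategoryTheory.Limits

namespace Groth.Agent.IntPair

/-- A criterion for a filtered cocone of `A`-algebras to be colimiting. -/
theorem isColimit_under {A : CommRingCat.{u}} {ι : Type u} [SmallCategory ι] [IsFiltered ι]
    (D : ι ⥤ Under A) (pt : Under A) (c : D ⟶ (Functor.const ι).obj pt)
    (hsurj : ∀ b : pt.right, ∃ (i : ι) (x : (D.obj i).right), (c.app i).right.hom x = b)
    (hinj : ∀ (i : ι) (x y : (D.obj i).right), (c.app i).right.hom x = (c.app i).right.hom y →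
      ∃ (k : ι) (f : i ⟶ k), (D.map f).right.hom x = (D.map f).right.hom y) :
    Nonempty (IsColimit (Cocone.mk pt c)) := by
  classical
  choose ib xb hb using hsurj
  have hnat : ∀ {q : Under A} (d : D ⟶ (Functor.const ι).obj q) {i j : ι} (f : i ⟶ j)
      (x : (D.obj i).right), (d.app j).right.hom ((D.map f).right.hom x) = (d.app i).right.hom x := by
    intro q d i j f x
    have h2 : (D.map f).right ≫ (d.app j).right = (d.app i).right := by
      rw [← Under.comp_right, d.naturality f]
      simp
    exact congr($(congrArg CommRingCat.Hom.hom h2) x)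
  -- the key well-definedness statement
  have key : ∀ (s : Cocone D) (i : ι) (x : (D.obj i).right),
      (s.ι.app i).right.hom x =
        (s.ι.app (ib ((c.app i).right.hom x))).right.hom (xb ((c.app i).right.hom x)) := by
    intro s i x
    set b := (c.app i).right.hom x
    obtain ⟨j, f, g, -⟩ : ∃ (j : ι) (f : i ⟶ j) (g : ib b ⟶ j), True :=
      ⟨IsFiltered.max i (ib b), IsFiltered.leftToMax _ _, IsFiltered.rightToMax _ _, trivial⟩
    obtain ⟨k, h, hk⟩ := hinj j ((D.map f).right.hom x) ((D.map g).right.hom (xb b))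
      (by rw [hnat c, hnat c]; exact (hb b).symm)
    calc (s.ι.app i).right.hom x
        = (s.ι.app k).right.hom ((D.map h).right.hom ((D.map f).right.hom x)) := by
          rw [hnat s.ι h, hnat s.ι f]
      _ = (s.ι.app k).right.hom ((D.map h).right.hom ((D.map g).right.hom (xb b))) := by rw [hk]
      _ = _ := by rw [hnat s.ι h, hnat s.ι g]
  have key' : ∀ (s : Cocone D) (i : ι) (x : (D.obj i).right) (b : pt.right),
      (c.app i).right.hom x = b →
      (s.ι.app (ib b)).right.hom (xb b) = (s.ι.app i).right.hom x := by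
    intro s i x b hx
    subst hx
    exact (key s i x).symm
  have hop : ∀ b₁ b₂ : pt.right, ∃ (i : ι) (x₁ x₂ : (D.obj i).right),
      (c.app i).right.hom x₁ = b₁ ∧ (c.app i).right.hom x₂ = b₂ := fun b₁ b₂ =>
    ⟨IsFiltered.max (ib b₁) (ib b₂), (D.map (IsFiltered.leftToMax _ _)).right.hom (xb b₁),
      (D.map (IsFiltered.rightToMax _ _)).right.hom (xb b₂),
      by rw [hnat c]; exact hb b₁, by rw [hnat c]; exact hb b₂⟩
  have hw : ∀ {q : Under A} (d : D ⟶ (Functor.const ι).obj q) (i : ι) (a : A),
      (d.app i).right.hom ((D.obj i).hom.hom a) = q.hom.hom a := by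
    intro q d i a
    exact congr($(congrArg CommRingCat.Hom.hom (Under.w (d.app i))) a)
  obtain ⟨i₀⟩ := IsFiltered.nonempty (C := ι)
  let desc : ∀ s : Cocone D, pt ⟶ s.pt := fun s => Under.homMk (CommRingCat.ofHom
    { toFun := fun b => (s.ι.app (ib b)).right.hom (xb b)
      map_one' := by
        exact (key' s i₀ 1 1 (map_one _)).trans (map_one _)
      map_zero' := by
        exact (key' s i₀ 0 0 (map_zero _)).trans (map_zero _)
      map_add' := fun b₁ b₂ => by
        obtain ⟨i, x₁, x₂, h₁, h₂⟩ := hop b₁ b₂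
        rw [key' s i x₁ b₁ h₁, key' s i x₂ b₂ h₂,
          key' s i (x₁ + x₂) (b₁ + b₂) (by rw [map_add, h₁, h₂]), map_add]
      map_mul' := fun b₁ b₂ => by
        obtain ⟨i, x₁, x₂, h₁, h₂⟩ := hop b₁ b₂
        rw [key' s i x₁ b₁ h₁, key' s i x₂ b₂ h₂,
          key' s i (x₁ * x₂) (b₁ * b₂) (by rw [map_mul, h₁, h₂]), map_mul] })
    (by
      ext a
      exact (key' s i₀ ((D.obj i₀).hom.hom a) _ (hw c i₀ a)).trans (hw s.ι i₀ a))
  refine ⟨{ desc := desc, fac := fun s i => ?_, uniq := fun s m hm => ?_ }⟩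
  · ext x
    exact (key s i x).symm
  · ext b
    show m.right.hom b = (s.ι.app (ib b)).right.hom (xb b)
    rw [← hm (ib b)]
    simp [hb]

variable {A B C : Type u} [CommRing A] [CommRing B] [CommRing C] [Algebra A B] [Algebra A C]
  [Algebra B C] [IsScalarTower A B C]

/-- The morphism under `A` defined by an algebra homomorphism. -/
noncomputable def underHom {R S : Type u} [CommRing R] [CommRing S] [Algebra A R] [Algebra A S]
    (f : R →ₐ[A] S) :
    Under.mk (CommRingCat.ofHom (algebraMap A R)) ⟶ Under.mk (CommRingCat.ofHom (algebraMap A S)) :=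
  Under.homMk (CommRingCat.ofHom f.toRingHom) (by ext a; exact f.commutes a)

variable (A B C) in
/-- The diagram of approximations of `B`. -/
noncomputable def DB : Idx A B C ⥤ Under (CommRingCat.of A) where
  obj i := Under.mk (CommRingCat.ofHom (algebraMap A (MvPolynomial ↥i.E A ⧸ i.I)))
  map {i j} f := underHom (Ideal.quotientMapₐ j.I (rnB (leOfHom f).hE) (leOfHom f).hI)
  map_id i := by
    apply Under.UnderMorphism.ext
    apply CommRingCat.hom_ext
    apply Ideal.Quotient.ringHom_ext
    apply RingHom.ext; intro p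
    show Ideal.Quotient.mk i.I (rnB (leOfHom (𝟙 i)).hE p) = Ideal.Quotient.mk i.I p
    rw [show rnB (A := A) (leOfHom (𝟙 i)).hE p = p from rename_id_apply p]
  map_comp {i j k} f g := by
    apply Under.UnderMorphism.ext
    apply CommRingCat.hom_ext
    apply Ideal.Quotient.ringHom_ext
    apply RingHom.ext; intro p
    show Ideal.Quotient.mk k.I (rnB (leOfHom (f ≫ g)).hE p) =
      Ideal.Quotient.mk k.I (rnB (leOfHom g).hE (rnB (leOfHom f).hE p))
    simp only [rnB, rename_rename]
    rfl

variable (A B C) in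
/-- The diagram of approximations of `C`. -/
noncomputable def DC : Idx A B C ⥤ Under (CommRingCat.of A) where
  obj i := Under.mk (CommRingCat.ofHom (algebraMap A (MvPolynomial (↥i.E ⊕ ↥i.E') A ⧸ i.J)))
  map {i j} f :=
    underHom (Ideal.quotientMapₐ j.J (rnC (leOfHom f).hE (leOfHom f).hE') (leOfHom f).hJ)
  map_id i := by
    apply Under.UnderMorphism.ext
    apply CommRingCat.hom_ext
    apply Ideal.Quotient.ringHom_ext
    apply RingHom.ext; intro p
    show Ideal.Quotient.mk i.J (rnC (leOfHom (𝟙 i)).hE (leOfHom (𝟙 i)).hE' p) = Ideal.Quotient.mk i.J p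
    congr 1
    rw [rnC]
    convert rename_id_apply p using 3
    funext x
    cases x <;> rfl
  map_comp {i j k} f g := by
    apply Under.UnderMorphism.ext
    apply CommRingCat.hom_ext
    apply Ideal.Quotient.ringHom_ext
    apply RingHom.ext; intro p
    show Ideal.Quotient.mk k.J (rnC (leOfHom (f ≫ g)).hE (leOfHom (f ≫ g)).hE' p) =
      Ideal.Quotient.mk k.J (rnC (leOfHom g).hE (leOfHom g).hE' (rnC (leOfHom f).hE (leOfHom f).hE' p))
    congr 1
    simp only [rnC, rename_rename]
    congr 2
    funext x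
    cases x <;> rfl

variable (A B C) in
/-- The map of diagrams. -/
noncomputable def tau : DB A B C ⟶ DC A B C where
  app i := underHom (Ideal.quotientMapₐ i.J (incl i.E i.E') i.hIJ)
  naturality i j f := by
    apply Under.UnderMorphism.ext
    apply CommRingCat.hom_ext
    apply Ideal.Quotient.ringHom_ext
    apply RingHom.ext; intro p
    show Ideal.Quotient.mk j.J (incl j.E j.E' (rnB (leOfHom f).hE p)) =
      Ideal.Quotient.mk j.J (rnC (leOfHom f).hE (leOfHom f).hE' (incl _ _ p))
    rw [rnC_incl]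

variable (A B C) in
/-- The cocone at `B`. -/
noncomputable def coneB :
    DB A B C ⟶ (Functor.const _).obj (Under.mk (CommRingCat.ofHom (algebraMap A B))) where
  app i := underHom (Ideal.Quotient.liftₐ i.I (evB i.E) (fun p hp => i.hI hp))
  naturality i j f := by
    apply Under.UnderMorphism.ext
    apply CommRingCat.hom_ext
    apply Ideal.Quotient.ringHom_ext
    apply RingHom.ext; intro p
    exact evB_rnB (leOfHom f).hE p

variable (A B C) in
/-- The cocone at `C`. -/
noncomputable def coneC :
    DC A B C ⟶ (Functor.const _).obj (Under.mk (CommRingCat.ofHom (algebraMap A C))) where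
  app i := underHom (Ideal.Quotient.liftₐ i.J (evC i.E i.E') (fun p hp => i.hJ hp))
  naturality i j f := by
    apply Under.UnderMorphism.ext
    apply CommRingCat.hom_ext
    apply Ideal.Quotient.ringHom_ext
    apply RingHom.ext; intro p
    exact evC_rnC (leOfHom f).hE (leOfHom f).hE' p

variable [Algebra.IsIntegral A B] [Algebra.IsIntegral A C]

instance isFiltered_idx : IsFiltered (Idx A B C) := by
  haveI := nonempty_idx (A := A) (B := B) (C := C)
  infer_instance

theorem isColimit_coneB : Nonempty (IsColimit (Cocone.mk _ (coneB A B C))) := by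
  classical
  refine isColimit_under _ _ _ (fun b => ?_) (fun i x y hxy => ?_)
  · obtain ⟨k, g, -, -, -⟩ := enlarge ({b} : Finset B) (∅ : Finset C)
      (⊥ : Ideal (MvPolynomial _ A)) ⊥ bot_le bot_le Submodule.fg_bot Submodule.fg_bot
    refine ⟨k, Ideal.Quotient.mk k.I (X ⟨b, g (Finset.mem_singleton_self b)⟩), ?_⟩
    show evB k.E (X _) = b
    rw [evB, aeval_X]
  · obtain ⟨p, rfl⟩ := Ideal.Quotient.mk_surjective x
    obtain ⟨q, rfl⟩ := Ideal.Quotient.mk_surjective y
    change evB i.E p = evB i.E q at hxy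
    obtain ⟨k, g, g', hik, hI, -⟩ := exists_ge i i.E i.E' subset_rfl subset_rfl
      (Ideal.span {p - q}) ⊥
      (Ideal.span_le.mpr (Set.singleton_subset_iff.mpr (by simp [hxy]))) bot_le
      (Submodule.fg_span_singleton _) Submodule.fg_bot
    refine ⟨k, homOfLE hik, ?_⟩
    show Ideal.Quotient.mk k.I (rnB hik.hE p) = Ideal.Quotient.mk k.I (rnB hik.hE q)
    rw [Ideal.Quotient.eq, ← map_sub]
    exact hI (Ideal.mem_span_singleton_self _)

theorem isColimit_coneC : Nonempty (IsColimit (Cocone.mk _ (coneC A B C))) := by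
  classical
  refine isColimit_under _ _ _ (fun c => ?_) (fun i x y hxy => ?_)
  · obtain ⟨k, -, g', -, -⟩ := enlarge (∅ : Finset B) ({c} : Finset C)
      (⊥ : Ideal (MvPolynomial _ A)) ⊥ bot_le bot_le Submodule.fg_bot Submodule.fg_bot
    refine ⟨k, Ideal.Quotient.mk k.J (X (Sum.inr ⟨c, g' (Finset.mem_singleton_self c)⟩)), ?_⟩
    show evC k.E k.E' (X _) = c
    rw [evC, aeval_X]; rfl
  · obtain ⟨p, rfl⟩ := Ideal.Quotient.mk_surjective x
    obtain ⟨q, rfl⟩ := Ideal.Quotient.mk_surjective y
    change evC i.E i.E' p = evC i.E i.E' q at hxy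
    obtain ⟨k, g, g', hik, -, hJ⟩ := exists_ge i i.E i.E' subset_rfl subset_rfl
      ⊥ (Ideal.span {p - q}) bot_le
      (Ideal.span_le.mpr (Set.singleton_subset_iff.mpr (by simp [hxy])))
      Submodule.fg_bot (Submodule.fg_span_singleton _)
    refine ⟨k, homOfLE hik, ?_⟩
    show Ideal.Quotient.mk k.J (rnC hik.hE hik.hE' p) = Ideal.Quotient.mk k.J (rnC hik.hE hik.hE' q)
    rw [Ideal.Quotient.eq, ← map_sub]
    exact hJ (Ideal.mem_span_singleton_self _)

/-- A quotient of a polynomial ring in finitely many variables by an ideal containing a monic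
relation for each variable is finite. -/
theorem finite_quotient {σ : Type u} [Finite σ] (I : Ideal (MvPolynomial σ A))
    (h : ∀ e : σ, ∃ p : Polynomial A, p.Monic ∧ Polynomial.aeval (X e) p ∈ I) :
    Module.Finite A (MvPolynomial σ A ⧸ I) := by
  haveI : Algebra.IsIntegral A (MvPolynomial σ A ⧸ I) := by
    constructor
    intro y
    obtain ⟨q, rfl⟩ := Ideal.Quotient.mkₐ_surjective A I y
    induction q using MvPolynomial.induction_on with
    | C a => rw [← MvPolynomial.algebraMap_eq, AlgHom.commutes]; exact isIntegral_algebraMap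
    | add p q hp hq => rw [map_add]; exact hp.add hq
    | mul_X p v hp =>
      rw [map_mul]
      refine hp.mul ?_
      obtain ⟨r, hr, hrI⟩ := h v
      refine ⟨r, hr, ?_⟩
      rw [← Polynomial.aeval_def, Polynomial.aeval_algHom_apply]
      exact Ideal.Quotient.eq_zero_iff_mem.mpr hrI
  exact Algebra.IsIntegral.finite

theorem surjective_quotient {σ : Type u} (I : Ideal (MvPolynomial σ A))
    (h : ∀ e : σ, ∃ a : A, X e - MvPolynomial.C a ∈ I) :
    Function.Surjective (algebraMap A (MvPolynomial σ A ⧸ I)) := by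
  intro y
  obtain ⟨q, rfl⟩ := Ideal.Quotient.mkₐ_surjective A I y
  induction q using MvPolynomial.induction_on with
  | C a => exact ⟨a, by simp [← MvPolynomial.algebraMap_eq]⟩
  | add p q hp hq =>
    obtain ⟨a, ha⟩ := hp
    obtain ⟨b, hb⟩ := hq
    exact ⟨a + b, by rw [map_add, map_add, ha, hb]⟩
  | mul_X p v hp =>
    obtain ⟨a, ha⟩ := hp
    obtain ⟨b, hb⟩ := h v
    refine ⟨a * b, ?_⟩
    rw [map_mul, map_mul, ha]
    congr 1
    rw [← AlgHom.commutes (Ideal.Quotient.mkₐ A I), MvPolynomial.algebraMap_eq]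
    exact (Ideal.Quotient.eq.mpr hb).symm

omit [Algebra.IsIntegral A B] [Algebra.IsIntegral A C] in
theorem isNilpotent_ker_of_comp {R S T : Type u} [CommRing R] [CommRing S] [CommRing T]
    (f : R →+* S) (g : S →+* T) (h : IsNilpotent (RingHom.ker (g.comp f))) :
    IsNilpotent (RingHom.ker f) := by
  obtain ⟨m, hm⟩ := h
  refine ⟨m, ?_⟩
  rw [Ideal.zero_eq_bot] at hm ⊢
  refine le_bot_iff.mp (hm ▸ Ideal.pow_right_mono (fun x hx => ?_) m)
  rw [RingHom.mem_ker] at hx ⊢
  simp [hx]

theorem approximation :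
    ∃ (ι : Type u) (_ : SmallCategory ι) (_ : IsFiltered ι) (DB DC : ι ⥤ Under (CommRingCat.of A)) (τ : DB ⟶ DC)
      (cB : DB ⟶ (Functor.const ι).obj (Under.mk (CommRingCat.ofHom (algebraMap A B))))
      (cC : DC ⟶ (Functor.const ι).obj (Under.mk (CommRingCat.ofHom (algebraMap A C)))),
      Nonempty (IsColimit (Cocone.mk _ cB)) ∧ Nonempty (IsColimit (Cocone.mk _ cC)) ∧
      (∀ i, (τ.app i).right ≫ (cC.app i).right = (cB.app i).right ≫ CommRingCat.ofHom (algebraMap B C)) ∧
      (∀ i, (DB.obj i).hom.hom.Finite ∧ (DB.obj i).hom.hom.FinitePresentation ∧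
        (DC.obj i).hom.hom.Finite ∧ (DC.obj i).hom.hom.FinitePresentation) ∧
      (Function.Surjective (algebraMap A B) → ∀ i, Function.Surjective (DB.obj i).hom.hom) ∧
      (Function.Surjective (algebraMap B C) → ∀ i, Function.Surjective (τ.app i).right.hom) ∧
      (Function.Surjective (algebraMap A C) → ∀ i, Function.Surjective (DC.obj i).hom.hom) ∧
      (Function.Surjective (algebraMap A B) → IsNilpotent (RingHom.ker (algebraMap A B)) →
        ∀ i, Function.Surjective (DB.obj i).hom.hom ∧ IsNilpotent (RingHom.ker (DB.obj i).hom.hom)) ∧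
      (Function.Surjective (algebraMap B C) → IsNilpotent (RingHom.ker (algebraMap B C)) →
        ∀ i, Function.Surjective (τ.app i).right.hom ∧ IsNilpotent (RingHom.ker (τ.app i).right.hom)) ∧
      (Function.Surjective (algebraMap A C) → IsNilpotent (RingHom.ker (algebraMap A C)) →
        ∀ i, Function.Surjective (DC.obj i).hom.hom ∧ IsNilpotent (RingHom.ker (DC.obj i).hom.hom)) := by
  have hτ : Function.Surjective (algebraMap B C) → ∀ i : Idx A B C,
      Function.Surjective (Ideal.quotientMapₐ i.J (incl i.E i.E') i.hIJ) := by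
    intro hs i y
    obtain ⟨q, rfl⟩ := Ideal.Quotient.mk_surjective y
    induction q using MvPolynomial.induction_on with
    | C a => exact ⟨algebraMap A _ a, by rw [AlgHom.commutes]; rfl⟩
    | add p q hp hq =>
      obtain ⟨a, ha⟩ := hp
      obtain ⟨b, hb⟩ := hq
      exact ⟨a + b, by rw [map_add, map_add, ha, hb]⟩
    | mul_X p v hp =>
      obtain ⟨a, ha⟩ := hp
      obtain ⟨e, he⟩ : ∃ e : ↥i.E, X v - X (Sum.inl e) ∈ i.J := by
        cases v with
        | inl e => exact ⟨e, by simp⟩
        | inr c => exact i.surjBC hs c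
      refine ⟨a * Ideal.Quotient.mk i.I (X e), ?_⟩
      rw [map_mul, map_mul, ha]
      congr 1
      show Ideal.Quotient.mk i.J (incl i.E i.E' (X e)) = _
      rw [incl, rename_X]
      exact (Ideal.Quotient.eq.mpr he).symm
  refine ⟨Idx A B C, inferInstance, inferInstance, IntPair.DB A B C, IntPair.DC A B C, tau A B C,
    coneB A B C, coneC A B C, isColimit_coneB, isColimit_coneC, ?_, ?_, ?_, ?_, ?_, ?_, ?_, ?_⟩
  · intro i
    apply CommRingCat.hom_ext
    apply Ideal.Quotient.ringHom_ext
    apply RingHom.ext; intro p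
    exact evC_incl i.E i.E' p
  · intro i
    haveI := finite_quotient i.I i.monB
    haveI := finite_quotient i.J i.monC
    refine ⟨?_, ?_, ?_, ?_⟩
    · show (algebraMap A (MvPolynomial ↥i.E A ⧸ i.I)).Finite
      exact RingHom.finite_algebraMap.mpr inferInstance
    · show (algebraMap A (MvPolynomial ↥i.E A ⧸ i.I)).FinitePresentation
      exact RingHom.finitePresentation_algebraMap.mpr (Algebra.FinitePresentation.quotient i.fgI)
    · show (algebraMap A (MvPolynomial (↥i.E ⊕ ↥i.E') A ⧸ i.J)).Finite
      exact RingHom.finite_algebraMap.mpr inferInstance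
    · show (algebraMap A (MvPolynomial (↥i.E ⊕ ↥i.E') A ⧸ i.J)).FinitePresentation
      exact RingHom.finitePresentation_algebraMap.mpr (Algebra.FinitePresentation.quotient i.fgJ)
  · exact fun hs i => surjective_quotient i.I (i.surjAB hs)
  · exact fun hs i => hτ hs i
  · exact fun hs i => surjective_quotient i.J (i.surjAC hs)
  · refine fun hs hn i => ⟨surjective_quotient i.I (i.surjAB hs),
      isNilpotent_ker_of_comp _ (Ideal.Quotient.liftₐ i.I (evB i.E) (fun p hp => i.hI hp)).toRingHom
        (by
          convert hn using 2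
          exact (Ideal.Quotient.liftₐ i.I (evB i.E) (fun p hp => i.hI hp)).comp_algebraMap)⟩
  · refine fun hs hn i => ⟨hτ hs i, ?_⟩
    obtain ⟨m, hm⟩ := i.nilBC hs hn
    refine ⟨m, ?_⟩
    show RingHom.ker (Ideal.quotientMap i.J (incl i.E i.E').toRingHom i.hIJ) ^ m = 0
    rw [Ideal.zero_eq_bot, ← le_bot_iff]
    refine (Ideal.pow_right_mono (fun y hy => ?_) m).trans (le_of_eq_of_le
      (Ideal.map_pow (Ideal.Quotient.mk i.I) (i.J.comap (incl i.E i.E')) m).symm
      ((Ideal.map_mono hm).trans (le_of_eq (Ideal.map_quotient_self _))))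
    obtain ⟨p, rfl⟩ := Ideal.Quotient.mk_surjective y
    refine Ideal.mem_map_of_mem _ (Ideal.mem_comap.mpr (Ideal.Quotient.eq_zero_iff_mem.mp ?_))
    rw [RingHom.mem_ker, Ideal.quotientMap_mk] at hy
    exact hy
  · refine fun hs hn i => ⟨surjective_quotient i.J (i.surjAC hs),
      isNilpotent_ker_of_comp _ (Ideal.Quotient.liftₐ i.J (evC i.E i.E') (fun p hp => i.hJ hp)).toRingHom
        (by
          convert hn using 2
          exact (Ideal.Quotient.liftₐ i.J (evC i.E i.E') (fun p hp => i.hJ hp)).comp_algebraMap)⟩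

end Groth.Agent.IntPair
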